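import Groth.Agent.Lib.OpenOrbit19.Basic

/-!
The identity component has the same open orbit.
-/

universe u

open CategoryTheory CategoryTheory.Limits AlgebraicGeometry MonoidalCategory CartesianMonoidalCategory MonObj TopologicalSpace Topology

set_option linter.style.haveILetI false
set_option backward.isDefEq.respectTransparency false
set_option backward.isDefEq.respectTransparency.types false

namespace Groth.Agent.OpenOrbit19

variable {k : Type u} [Field k] {K : Type u} [Field K] [IsAlgClosed K]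
  {σ : Spec (CommRingCat.of K) ⟶ Spec (CommRingCat.of k)}

/-- a closed point of a product with `Spec K` gives a section -/
theorem exists_section {A : Over (Spec (CommRingCat.of k))} [LocallyOfFiniteType A.hom]
    (c : (Over.mk σ ⊗ A).left) (hc : c ∈ closedPoints (Over.mk σ ⊗ A).left) :
    ∃ s : Over.mk σ ⟶ Over.mk σ ⊗ A,
      s ≫ fst (Over.mk σ) A = 𝟙 _ ∧ s.left (IsLocalRing.closedPoint K) = c := by
  let q : (Over.mk σ ⊗ A).left ⟶ Spec (CommRingCat.of K) := (fst (Over.mk σ) A).left
  haveI : LocallyOfFiniteType q := inferInstanceAs (LocallyOfFiniteType (pullback.fst σ A.hom))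
  let s := pointOfClosedPoint q c hc
  have hs : s ≫ (fst (Over.mk σ) A).left = 𝟙 _ := pointOfClosedPoint_comp q c hc
  exact ⟨Over.homMk s (by rw [← Over.w (fst (Over.mk σ) A), reassoc_of% hs]), Over.OverMorphism.ext hs,
    pointOfClosedPoint_apply q c hc _⟩

theorem exists_lift_over {A B : Over (Spec (CommRingCat.of k))} [LocallyOfFiniteType A.hom] [LocallyOfFiniteType B.hom]
    (f : Over.mk σ ⊗ A ⟶ Over.mk σ ⊗ B) (hf : f ≫ fst _ _ = fst _ _) (s : Over.mk σ ⟶ Over.mk σ ⊗ B)
    (hs : s ≫ fst _ _ = 𝟙 _) (h : s.left (IsLocalRing.closedPoint K) ∈ Set.range f.left.base) :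
    ∃ t : Over.mk σ ⟶ Over.mk σ ⊗ A, t ≫ fst _ _ = 𝟙 _ ∧ t ≫ f = s := by
  let qA : (Over.mk σ ⊗ A).left ⟶ Spec (CommRingCat.of K) := (fst (Over.mk σ) A).left
  let qB : (Over.mk σ ⊗ B).left ⟶ Spec (CommRingCat.of K) := (fst (Over.mk σ) B).left
  haveI : LocallyOfFiniteType qA := inferInstanceAs (LocallyOfFiniteType (pullback.fst σ A.hom))
  haveI : LocallyOfFiniteType qB := inferInstanceAs (LocallyOfFiniteType (pullback.fst σ B.hom))
  haveI : JacobsonSpace ↥(Over.mk σ ⊗ A).left := LocallyOfFiniteType.jacobsonSpace qA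
  have hcl : IsClosed ({s.left (IsLocalRing.closedPoint K)} : Set (Over.mk σ ⊗ B).left) :=
    (pointEquivClosedPoint qB ⟨s.left, congrArg CommaMorphism.left hs⟩).2
  obtain ⟨v, hv⟩ := h
  obtain ⟨d, hd, hdc⟩ := nonempty_inter_closedPoints (Z := f.left.base ⁻¹' {s.left (IsLocalRing.closedPoint K)})
    ⟨v, hv⟩ (hcl.preimage f.left.continuous).isLocallyClosed
  obtain ⟨t, ht, htd⟩ := exists_section d hdc
  refine ⟨t, ht, Over.OverMorphism.ext ?_⟩
  refine ext_of_apply_closedPoint_eq qB ?_ (congrArg CommaMorphism.left hs) ?_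
  · show ((t ≫ f) ≫ fst _ _).left = _
    rw [Category.assoc, hf, ht]
    rfl
  · show f.left (t.left (IsLocalRing.closedPoint K)) = _
    rw [htd]
    exact hd

variable {G X : Over (Spec (CommRingCat.of k))} [GrpObj G] (a : AlgGrp.Action G X)

/-- translation of `T ⊗ X` by a point of `G` -/
noncomputable def translate {T : Over (Spec (CommRingCat.of k))} (g : T ⟶ G) : T ⊗ X ≅ T ⊗ X where
  hom := lift (fst T X) (lift (fst T X ≫ g) (snd T X) ≫ a.act)
  inv := lift (fst T X) (lift ((fst T X ≫ g)⁻¹) (snd T X) ≫ a.act)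
  hom_inv_id := by
    apply CartesianMonoidalCategory.hom_ext
    · simp
    · rw [Category.assoc, lift_snd, comp_lift_assoc, GrpObj.comp_inv, lift_fst_assoc, lift_snd,
        ← AlgGrpBasic19.act_mul, _root_.inv_mul_cancel, AlgGrpBasic19.act_one, Category.id_comp]
  inv_hom_id := by
    apply CartesianMonoidalCategory.hom_ext
    · simp
    · rw [Category.assoc, lift_snd, comp_lift_assoc, lift_fst_assoc, lift_snd,
        ← AlgGrpBasic19.act_mul, _root_.mul_inv_cancel, AlgGrpBasic19.act_one, Category.id_comp]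

theorem pt_translate {T : Over (Spec (CommRingCat.of k))} (g : T ⟶ G) (w : T ⟶ X) :
    lift (𝟙 T) w ≫ (translate a g).hom = lift (𝟙 T) (lift g w ≫ a.act) := by
  rw [translate, comp_lift, lift_fst, comp_lift_assoc, lift_fst_assoc, lift_snd, Category.id_comp]

/-- finitely many translates of an open subgroup cover all rational points -/
theorem exists_finite_cosets [LocallyOfFiniteType G.hom] [QuasiCompact G.hom] {G0 : Over (Spec (CommRingCat.of k))}
    (i : G0 ⟶ G) [IsOpenImmersion i.left] (h1 : (η[G]).left (IsLocalRing.closedPoint k) ∈ Set.range i.left.base) :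
    ∃ F : Set (Over.mk σ ⟶ G), F.Finite ∧ ∀ g : Over.mk σ ⟶ G, ∃ g' ∈ F, ∃ h : Over.mk σ ⟶ G0, g = g' * (h ≫ i) := by
  let T := Over.mk σ
  let q : (T ⊗ G).left ⟶ Spec (CommRingCat.of K) := (fst T G).left
  haveI : LocallyOfFiniteType q := inferInstanceAs (LocallyOfFiniteType (pullback.fst σ G.hom))
  haveI : QuasiCompact q := inferInstanceAs (QuasiCompact (pullback.fst σ G.hom))
  haveI : CompactSpace ↥(T ⊗ G).left := QuasiCompact.compactSpace_of_compactSpace q
  haveI : JacobsonSpace ↥(T ⊗ G).left := LocallyOfFiniteType.jacobsonSpace q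
  let ρ : (T ⟶ G) → (T ⊗ G ⟶ G) := fun g => (fst T G ≫ g)⁻¹ * snd T G
  let V : (T ⟶ G) → Set (T ⊗ G).left := fun g => (ρ g).left.base ⁻¹' Set.range i.left.base
  have hV : ∀ g, IsOpen (V g) := fun g => i.left.isOpenEmbedding.isOpen_range.preimage (ρ g).left.continuous
  have hcov : Set.univ ⊆ ⋃ g, V g := by
    intro z _
    by_contra hz
    obtain ⟨c, hc, hcc⟩ := nonempty_inter_closedPoints (Z := (⋃ g, V g)ᶜ) ⟨z, hz⟩
      (isOpen_iUnion hV).isClosed_compl.isLocallyClosed
    obtain ⟨s, hs, hsc⟩ := exists_section c hcc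
    refine hc (Set.mem_iUnion.2 ⟨s ≫ snd T G, ?_⟩)
    show (ρ (s ≫ snd T G)).left c ∈ Set.range i.left.base
    have e : s ≫ ρ (s ≫ snd T G) = (1 : T ⟶ G) := by
      rw [MonObj.comp_mul, GrpObj.comp_inv, reassoc_of% hs, _root_.inv_mul_cancel]
    rw [← hsc, ← Scheme.Hom.comp_apply, ← Over.comp_left, e, Hom.one_def, Over.comp_left, Scheme.Hom.comp_apply]
    convert h1 using 2
    exact Subsingleton.elim (α := PrimeSpectrum k) _ _
  obtain ⟨F, hF⟩ := isCompact_univ.elim_finite_subcover V hV hcov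
  refine ⟨F, F.finite_toSet, fun g => ?_⟩
  let s : T ⟶ T ⊗ G := lift (𝟙 T) g
  obtain ⟨g', hg', hmem⟩ := Set.mem_iUnion₂.1 (hF (Set.mem_univ (s.left (IsLocalRing.closedPoint K))))
  refine ⟨g', hg', ?_⟩
  have e : s ≫ ρ g' = g'⁻¹ * g := by
    rw [MonObj.comp_mul, GrpObj.comp_inv, lift_fst_assoc, lift_snd, Category.id_comp]
  have hr : Set.range (g'⁻¹ * g).left.base ⊆ Set.range i.left.base := by
    rintro _ ⟨p, rfl⟩
    rw [← e, Over.comp_left, Scheme.Hom.comp_apply,
      Subsingleton.elim (α := PrimeSpectrum K) p (IsLocalRing.closedPoint K)]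
    exact hmem
  refine ⟨Over.homMk (IsOpenImmersion.lift i.left _ hr) ?_, ?_⟩
  · rw [← Over.w i, IsOpenImmersion.lift_fac_assoc]
    exact Over.w (g'⁻¹ * g)
  · have : Over.homMk (IsOpenImmersion.lift i.left _ hr) (by
        rw [← Over.w i, IsOpenImmersion.lift_fac_assoc]; exact Over.w (g'⁻¹ * g)) ≫ i = g'⁻¹ * g :=
      Over.OverMorphism.ext (IsOpenImmersion.lift_fac i.left _ hr)
    rw [this, mul_inv_cancel_left]

theorem mem_range_graph_identity [LocallyOfFiniteType G.hom] [QuasiCompact G.hom] {G0 : Over (Spec (CommRingCat.of k))}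
    [GrpObj G0] [LocallyOfFiniteType G0.hom] [QuasiCompact G0.hom]
    [IsSeparated X.hom] [LocallyOfFiniteType X.hom] [QuasiCompact X.hom] [GeometricallyIntegral X.hom]
    (i : G0 ⟶ G) [IsOpenImmersion i.left] (h1 : (η[G]).left (IsLocalRing.closedPoint k) ∈ Set.range i.left.base)
    (a0 : AlgGrp.Action G0 X) (ha0 : a0.act = (i ▷ X) ≫ a.act) (U : X.left.Opens)
    (H : ∀ p : (X ⊗ X).left, (fst X X).left p ∈ U → (snd X X).left p ∈ U → p ∈ Set.range (graph a).left.base)
    (p : (X ⊗ X).left) (hp1 : (fst X X).left p ∈ U) (hp2 : (snd X X).left p ∈ U) :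
    p ∈ Set.range (graph a0).left.base := by
  haveI : LocallyOfFiniteType (G ⊗ X).hom :=
    inferInstanceAs (LocallyOfFiniteType (pullback.fst G.hom X.hom ≫ G.hom))
  obtain ⟨K, _, _, σ, t, ht⟩ := exists_geomPoint _ p
  obtain ⟨x, y, rfl⟩ : ∃ x y, t = lift x y := ⟨_, _, (lift_comp_fst_snd t).symm⟩
  have hxU : x.left (IsLocalRing.closedPoint K) ∈ U := by
    rw [← ht (IsLocalRing.closedPoint K), ← Scheme.Hom.comp_apply, ← Over.comp_left, lift_fst] at hp1
    exact hp1
  have hyU : y.left (IsLocalRing.closedPoint K) ∈ U := by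
    rw [← ht (IsLocalRing.closedPoint K), ← Scheme.Hom.comp_apply, ← Over.comp_left, lift_snd] at hp2
    exact hp2
  let T := Over.mk σ
  let qP : (T ⊗ X).left ⟶ Spec (CommRingCat.of K) := (fst T X).left
  let qA : (T ⊗ G0).left ⟶ Spec (CommRingCat.of K) := (fst T G0).left
  haveI : LocallyOfFiniteType qP := inferInstanceAs (LocallyOfFiniteType (pullback.fst σ X.hom))
  haveI : QuasiCompact qP := inferInstanceAs (QuasiCompact (pullback.fst σ X.hom))
  haveI : GeometricallyIntegral qP := inferInstanceAs (GeometricallyIntegral (pullback.fst σ X.hom))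
  haveI : LocallyOfFiniteType qA := inferInstanceAs (LocallyOfFiniteType (pullback.fst σ G0.hom))
  haveI : QuasiCompact qA := inferInstanceAs (QuasiCompact (pullback.fst σ G0.hom))
  haveI : IsLocallyNoetherian (T ⊗ X).left := LocallyOfFiniteType.isLocallyNoetherian qP
  haveI : IsIntegral (T ⊗ X).left := GeometricallyIntegral.isIntegral_of_subsingleton qP
  haveI : JacobsonSpace ↥(T ⊗ X).left := LocallyOfFiniteType.jacobsonSpace qP
  haveI : IsNoetherian (T ⊗ X).left :=
    { toCompactSpace := QuasiCompact.compactSpace_of_compactSpace qP }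
  obtain ⟨F, hFfin, hF⟩ := exists_finite_cosets (σ := σ) i h1
  let ω : (T ⟶ X) → (T ⊗ G0 ⟶ T ⊗ X) := fun x => lift (fst T G0) (lift (snd T G0) (fst T G0 ≫ x) ≫ a0.act)
  have hω : ∀ x, ω x ≫ fst T X = fst T G0 := fun x => lift_fst _ _
  let W : Set (T ⊗ X).left := (snd T X).left.base ⁻¹' U
  have hW : IsOpen W := U.2.preimage (snd T X).left.continuous
  have hWne : W.Nonempty := ⟨(lift (𝟙 T) y).left (IsLocalRing.closedPoint K), by
    show _ ∈ U
    rw [← Scheme.Hom.comp_apply, ← Over.comp_left, lift_snd]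
    exact hyU⟩
  -- every orbit is dense
  have hdense : ∀ x : T ⟶ X, x.left (IsLocalRing.closedPoint K) ∈ U → DenseRange (ω x).left.base := fun x hx => by
    have hsub : W ⊆ ⋃ g ∈ F, closure ((translate a g).hom.left.base '' Set.range (ω x).left.base) := by
      intro z hz
      by_contra hz'
      obtain ⟨c, ⟨hcW, hc'⟩, hcc⟩ := nonempty_inter_closedPoints
        (Z := W ∩ (⋃ g ∈ F, closure ((translate a g).hom.left.base '' Set.range (ω x).left.base))ᶜ) ⟨z, hz, hz'⟩
        (hW.inter (hFfin.isClosed_biUnion fun _ _ => isClosed_closure).isOpen_compl).isLocallyClosed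
      obtain ⟨s, hs, hsc⟩ := exists_section c hcc
      obtain ⟨v, hv⟩ := exists_lift (graph a) (s ≫ (x ▷ X)) (H _ (by
          show (fst X X).left ((s ≫ (x ▷ X)).left (IsLocalRing.closedPoint K)) ∈ U
          rw [← Scheme.Hom.comp_apply, ← Over.comp_left, Category.assoc, whiskerRight_fst, reassoc_of% hs]
          exact hx) (by
          show (snd X X).left ((s ≫ (x ▷ X)).left (IsLocalRing.closedPoint K)) ∈ U
          rw [← Scheme.Hom.comp_apply, ← Over.comp_left, Category.assoc, whiskerRight_snd, Over.comp_left,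
            Scheme.Hom.comp_apply, hsc]
          exact hcW))
      obtain ⟨g, x', rfl⟩ : ∃ g x', v = lift g x' := ⟨_, _, (lift_comp_fst_snd v).symm⟩
      rw [pt_graph] at hv
      have e1 : x' = x := by
        have := congrArg (· ≫ fst X X) hv
        simp only [lift_fst, Category.assoc, whiskerRight_fst] at this
        rw [this, reassoc_of% hs]
      subst e1
      have e2 : lift g x' ≫ a.act = s ≫ snd T X := by simpa using congrArg (· ≫ snd X X) hv
      obtain ⟨g', hg', h, rfl⟩ := hF g
      have e3 : (lift (𝟙 T) h ≫ ω x') ≫ (translate a g').hom = s := by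
        have e4 : lift (𝟙 T) h ≫ ω x' = lift (𝟙 T) (lift (h ≫ i) x' ≫ a.act) := by
          simp only [ω]
          rw [comp_lift, lift_fst, comp_lift_assoc, lift_fst_assoc, lift_snd, Category.id_comp, ha0,
            lift_whiskerRight_assoc]
        rw [e4, pt_translate, ← AlgGrpBasic19.act_mul, e2, ← hs]
        exact lift_comp_fst_snd s
      refine hc' (Set.mem_biUnion hg' (subset_closure ?_))
      rw [← hsc, ← e3]
      exact ⟨_, ⟨(lift (𝟙 T) h).left (IsLocalRing.closedPoint K), rfl⟩, rfl⟩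
    have h2 : (Set.univ : Set (T ⊗ X).left) ⊆ ⋃ g ∈ F, closure ((translate a g).hom.left.base '' Set.range (ω x).left.base) := by
      rw [← (hW.dense hWne).closure_eq]
      exact closure_minimal hsub (hFfin.isClosed_biUnion fun _ _ => isClosed_closure)
    obtain ⟨z, hz, hgen⟩ := isIrreducible_iff_sUnion_isClosed.1
        (IrreducibleSpace.isIrreducible_univ (T ⊗ X).left)
        ((hFfin.image fun g => closure ((translate a g).hom.left.base '' Set.range (ω x).left.base)).toFinset)
        (fun z hz => by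
          obtain ⟨g, -, rfl⟩ := (Set.Finite.mem_toFinset _).1 hz
          exact isClosed_closure)
        (by
          rw [Set.Finite.coe_toFinset, Set.sUnion_image]
          exact h2)
    obtain ⟨g, -, rfl⟩ := (Set.Finite.mem_toFinset _).1 hz
    haveI : IsIso (translate a g).hom.left :=
      inferInstanceAs (IsIso ((Over.forget _).map (translate a g).hom))
    intro z
    have h3 := hgen (Set.mem_univ ((translate a g).hom.left z))
    let e := (translate a g).hom.left.homeomorph
    change e z ∈ closure (e '' Set.range (ω x).left.base) at h3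
    rw [← Homeomorph.image_closure] at h3
    obtain ⟨z', hz', hez⟩ := h3
    exact e.injective hez ▸ hz'
  -- dense orbits meet
  have hgen : ∀ x : T ⟶ X, x.left (IsLocalRing.closedPoint K) ∈ U →
      ∃ V : (T ⊗ X).left.Opens, (V : Set (T ⊗ X).left).Nonempty ∧ (V : Set (T ⊗ X).left) ⊆ Set.range (ω x).left.base := fun x hx => by
    haveI : LocallyOfFiniteType ((ω x).left ≫ qP) := by
      rw [show (ω x).left ≫ qP = qA from congrArg CommaMorphism.left (hω x)]; infer_instance
    haveI : LocallyOfFiniteType (ω x).left := locallyOfFiniteType_of_comp _ qP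
    haveI : QuasiCompact ((ω x).left ≫ qP) := by
      rw [show (ω x).left ≫ qP = qA from congrArg CommaMorphism.left (hω x)]; infer_instance
    haveI : QuasiCompact (ω x).left := QuasiCompact.of_comp _ qP
    haveI : LocallyOfFinitePresentation (ω x).left := inferInstance
    have hc : IsConstructible (Set.range (ω x).left.base) := by
      rw [← Set.image_univ]
      exact (ω x).left.isConstructible_image IsConstructible.univ
    have hη : genericPoint ↥(T ⊗ X).left ∈ Set.range (ω x).left.base := by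
      by_contra hcn
      obtain ⟨V, hV, hdisj⟩ := GenSmooth18.exists_open_compl_of_constructible hc hcn
      obtain ⟨v, hv⟩ := (hdense x hx).exists_mem_open V.2 hV
      exact Set.disjoint_left.1 hdisj hv ⟨v, rfl⟩
    obtain ⟨O, hO, hOR⟩ := GenSmooth18.exists_open_compl_of_constructible hc.compl (not_not.2 hη)
    exact ⟨O, hO, Set.disjoint_compl_right_iff_subset.1 hOR⟩
  obtain ⟨V, hV, hVx⟩ := hgen x hxU
  obtain ⟨V', hV', hVy⟩ := hgen y hyU
  obtain ⟨c, ⟨hc1, hc2⟩, hc⟩ := nonempty_inter_closedPoints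
    (nonempty_preirreducible_inter V.2 V'.2 hV hV') (V.2.inter V'.2).isLocallyClosed
  obtain ⟨s, hs, hsc⟩ := exists_section c hc
  have key : ∀ x : T ⟶ X, c ∈ Set.range (ω x).left.base → ∃ h : T ⟶ G0, lift h x ≫ a0.act = s ≫ snd T X := fun x hx => by
    obtain ⟨v, hv1, hv2⟩ := exists_lift_over (ω x) (hω x) s hs (by rw [hsc]; exact hx)
    refine ⟨v ≫ snd T G0, ?_⟩
    rw [← hv2, Category.assoc, lift_snd, comp_lift_assoc, reassoc_of% hv1]
  obtain ⟨h, hh⟩ := key x (hVx hc1)
  obtain ⟨h', hh'⟩ := key y (hVy hc2)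
  refine ⟨(lift (h'⁻¹ * h) x).left (IsLocalRing.closedPoint K), ?_⟩
  rw [← Scheme.Hom.comp_apply, ← Over.comp_left, pt_graph, AlgGrpBasic19.act_mul, hh, ← hh',
    ← AlgGrpBasic19.act_mul, _root_.inv_mul_cancel, AlgGrpBasic19.act_one]
  exact ht _

end Groth.Agent.OpenOrbit19
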