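import Groth.Agent.Lib.AlgGrpBasic19.Basic
import Groth.Agent.Lib.OverProd19.Basic
import Groth.Agent.Lib.GenSmooth18.Scheme
import Groth.Agent.Lib.AbRigid.Epi
import Mathlib.AlgebraicGeometry.AlgClosed.Basic

/-!
The open orbit of an almost homogeneous variety.
-/

universe u

open CategoryTheory CategoryTheory.Limits AlgebraicGeometry MonoidalCategory CartesianMonoidalCategory MonObj TopologicalSpace Topology

set_option linter.style.haveILetI false
set_option backward.isDefEq.respectTransparency false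
set_option backward.isDefEq.respectTransparency.types false

namespace Groth.Agent.OpenOrbit19

variable {k : Type u} [Field k]

/-- every point is the image of a point with values in an algebraically closed field -/
theorem exists_geomPoint (Z : Over (Spec (CommRingCat.of k))) (z : Z.left) :
    ∃ (K : Type u) (_ : Field K) (_ : IsAlgClosed K) (σ : Spec (CommRingCat.of K) ⟶ Spec (CommRingCat.of k))
      (t : Over.mk σ ⟶ Z), ∀ c, t.left c = z := by
  let K := AlgebraicClosure (Z.left.residueField z)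
  let i : Spec (CommRingCat.of K) ⟶ Z.left :=
    Spec.map (CommRingCat.ofHom (algebraMap (Z.left.residueField z) K)) ≫ Z.left.fromSpecResidueField z
  refine ⟨K, inferInstance, inferInstance, i ≫ Z.hom, Over.homMk i rfl, fun c => ?_⟩
  show i c = z
  rw [Scheme.Hom.comp_apply]
  exact Scheme.fromSpecResidueField_apply z _

variable {K : Type u} [Field K] [IsAlgClosed K] {σ : Spec (CommRingCat.of K) ⟶ Spec (CommRingCat.of k)}

/-- lifting of points with values in an algebraically closed field -/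
theorem exists_lift {A B : Over (Spec (CommRingCat.of k))} [LocallyOfFiniteType A.hom] (f : A ⟶ B)
    (t : Over.mk σ ⟶ B) (h : t.left (IsLocalRing.closedPoint K) ∈ Set.range f.left.base) :
    ∃ p : Over.mk σ ⟶ A, p ≫ f = t := by
  haveI : LocallyOfFiniteType f.left := AlgGrpBasic19.lft_left f
  let P := pullback f.left t.left
  let q : P ⟶ Spec (CommRingCat.of K) := pullback.snd f.left t.left
  haveI : JacobsonSpace ↥P := LocallyOfFiniteType.jacobsonSpace q
  obtain ⟨v, hv⟩ := h
  obtain ⟨z, -, -⟩ := Scheme.Pullback.exists_preimage_pullback (f := f.left) (g := t.left) v _ hv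
  obtain ⟨c, -, hc⟩ := nonempty_inter_closedPoints (Z := (Set.univ : Set P)) ⟨z, trivial⟩
    isOpen_univ.isLocallyClosed
  let s := pointOfClosedPoint q c hc
  have hs : s ≫ pullback.snd f.left t.left = 𝟙 _ := pointOfClosedPoint_comp q c hc
  have e : (s ≫ pullback.fst f.left t.left) ≫ f.left = t.left := by
    rw [Category.assoc, pullback.condition, reassoc_of% hs]
  refine ⟨Over.homMk (s ≫ pullback.fst f.left t.left) ?_, Over.OverMorphism.ext e⟩
  rw [← Over.w f, ← Category.assoc, e]
  exact Over.w t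

theorem isOpenMap_left {A B : Over (Spec (CommRingCat.of k))} (f : A ⟶ B) [Flat f.left]
    [LocallyOfFinitePresentation f.left] : IsOpenMap f.left.base := by
  haveI : UniversallyOpen f.left := inferInstance
  exact f.left.isOpenMap

variable {G X : Over (Spec (CommRingCat.of k))} [GrpObj G] (a : AlgGrp.Action G X)

/-- the graph -/
noncomputable def graph : G ⊗ X ⟶ X ⊗ X := lift (snd G X) a.act

theorem pt_graph {T : Over (Spec (CommRingCat.of k))} (g : T ⟶ G) (x : T ⟶ X) :
    lift g x ≫ graph a = lift x (lift g x ≫ a.act) := by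
  rw [graph, comp_lift, lift_snd]

/-- `(g,(x,y)) ↦ (g x, y)` -/
noncomputable def moveFst : G ⊗ (X ⊗ X) ⟶ X ⊗ X := (α_ G X X).inv ≫ (a.act ▷ X)

theorem pt_moveFst {T : Over (Spec (CommRingCat.of k))} (g : T ⟶ G) (x y : T ⟶ X) :
    lift g (lift x y) ≫ moveFst a = lift (lift g x ≫ a.act) y := by
  rw [moveFst, lift_lift_associator_inv_assoc, lift_whiskerRight]

theorem moveFst_fst : moveFst a ≫ fst X X = (G ◁ fst X X) ≫ a.act := by
  rw [moveFst, Category.assoc, whiskerRight_fst, ← Category.assoc]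
  congr 1
  refine CartesianMonoidalCategory.hom_ext _ _ ?_ ?_ <;> simp

theorem isOpenMap_moveFst [Smooth G.hom] [LocallyOfFiniteType X.hom] : IsOpenMap (moveFst a).left.base := by
  haveI hfl : Flat a.act.left := AlgGrpBasic19.act_of_property a @Flat inferInstance
  haveI hfp : LocallyOfFinitePresentation a.act.left :=
    AlgGrpBasic19.act_of_property a @LocallyOfFinitePresentation inferInstance
  have hp := (OverProd19.isPullback_whiskerRight a.act X).map (Over.forget (Spec (CommRingCat.of k)))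
  haveI : Flat (a.act ▷ X).left := MorphismProperty.of_isPullback (P := @Flat) hp hfl
  haveI : LocallyOfFinitePresentation (a.act ▷ X).left :=
    MorphismProperty.of_isPullback (P := @LocallyOfFinitePresentation) hp hfp
  rw [moveFst, Over.comp_left, Scheme.Hom.comp_base, TopCat.coe_comp]
  haveI : IsIso (α_ G X X).inv.left :=
    inferInstanceAs (IsIso ((Over.forget _).map (α_ G X X).inv))
  exact (isOpenMap_left (a.act ▷ X)).comp (α_ G X X).inv.left.homeomorph.isOpenMap

theorem moveFst_mem_range [LocallyOfFiniteType G.hom] [LocallyOfFiniteType X.hom] (w : (G ⊗ (X ⊗ X)).left)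
    (h : (snd G (X ⊗ X)).left w ∈ Set.range (graph a).left.base) :
    (moveFst a).left w ∈ Set.range (graph a).left.base := by
  haveI : LocallyOfFiniteType (G ⊗ X).hom :=
    inferInstanceAs (LocallyOfFiniteType (pullback.fst G.hom X.hom ≫ G.hom))
  obtain ⟨K, _, _, σ, t, ht⟩ := exists_geomPoint _ w
  obtain ⟨g, z, rfl⟩ : ∃ g z, t = lift g z := ⟨_, _, (lift_comp_fst_snd t).symm⟩
  obtain ⟨x, y, rfl⟩ : ∃ x y, z = lift x y := ⟨_, _, (lift_comp_fst_snd z).symm⟩
  obtain ⟨p, hp⟩ := exists_lift (graph a) (lift x y) (by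
    rw [← lift_snd g (lift x y), Over.comp_left, Scheme.Hom.comp_apply, ht]
    exact h)
  obtain ⟨g', x', rfl⟩ : ∃ g' x', p = lift g' x' := ⟨_, _, (lift_comp_fst_snd p).symm⟩
  rw [pt_graph] at hp
  have e1 : x' = x := by simpa using congrArg (· ≫ fst X X) hp
  subst e1
  have e2 : lift g' x' ≫ a.act = y := by simpa using congrArg (· ≫ snd X X) hp
  have key : lift (g' * g⁻¹) (lift g x' ≫ a.act) ≫ graph a = lift g (lift x' y) ≫ moveFst a := by
    rw [pt_moveFst, pt_graph, ← AlgGrpBasic19.act_mul, _root_.inv_mul_cancel_right, e2]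
  refine ⟨(lift (g' * g⁻¹) (lift g x' ≫ a.act)).left (IsLocalRing.closedPoint K), ?_⟩
  rw [← Scheme.Hom.comp_apply, ← Over.comp_left, key, Over.comp_left, Scheme.Hom.comp_apply, ht]

theorem exists_stable_open [Smooth G.hom] [QuasiCompact G.hom] [IsSeparated X.hom] [LocallyOfFiniteType X.hom]
    [QuasiCompact X.hom] [GeometricallyIntegral X.hom] (hd : IsDominant (graph a).left) :
    ∃ U : X.left.Opens, (U : Set X.left).Nonempty ∧
      ∃ b : AlgGrp.Action G (Over.mk (U.ι ≫ X.hom)),
          (G ◁ (Over.homMk U.ι rfl : Over.mk (U.ι ≫ X.hom) ⟶ X)) ≫ a.act = b.act ≫ Over.homMk U.ι rfl ∧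
          Surjective (lift (snd G (Over.mk (U.ι ≫ X.hom))) b.act).left := by
  haveI : LocallyOfFiniteType G.hom := inferInstance
  haveI : LocallyOfFiniteType (G ⊗ X).hom :=
    inferInstanceAs (LocallyOfFiniteType (pullback.fst G.hom X.hom ≫ G.hom))
  haveI : QuasiCompact (G ⊗ X).hom := inferInstanceAs (QuasiCompact (pullback.fst G.hom X.hom ≫ G.hom))
  haveI : LocallyOfFiniteType (X ⊗ X).hom :=
    inferInstanceAs (LocallyOfFiniteType (pullback.fst X.hom X.hom ≫ X.hom))
  haveI : GeometricallyIntegral (X ⊗ X).hom := AbRigid.geometricallyIntegral_tensorObj X X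
  haveI : IsLocallyNoetherian (X ⊗ X).left := LocallyOfFiniteType.isLocallyNoetherian (X ⊗ X).hom
  haveI : IsIntegral (X ⊗ X).left := GeometricallyIntegral.isIntegral_of_subsingleton (X ⊗ X).hom
  haveI : QuasiCompact (graph a).left := AlgGrpBasic19.quasiCompact_left _
  haveI : LocallyOfFiniteType (graph a).left := AlgGrpBasic19.lft_left _
  haveI : LocallyOfFinitePresentation (graph a).left := inferInstance
  set R := Set.range (graph a).left.base with hR
  have hRc : IsConstructible R := by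
    haveI : IsNoetherian (X ⊗ X).left :=
      { toCompactSpace := by
          haveI : QuasiCompact (X ⊗ X).hom := inferInstanceAs (QuasiCompact (pullback.fst X.hom X.hom ≫ X.hom))
          exact QuasiCompact.compactSpace_of_compactSpace (X ⊗ X).hom }
    rw [hR, ← Set.image_univ]
    exact (graph a).left.isConstructible_image IsConstructible.univ
  have hη : genericPoint ↥(X ⊗ X).left ∈ R := by
    by_contra hc
    obtain ⟨V, hV, hdisj⟩ := GenSmooth18.exists_open_compl_of_constructible hRc hc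
    obtain ⟨v, hv⟩ := hd.denseRange.exists_mem_open V.2 hV
    exact Set.disjoint_left.1 hdisj hv ⟨v, rfl⟩
  obtain ⟨O, hO, hOR⟩ := GenSmooth18.exists_open_compl_of_constructible hRc.compl (not_not.2 hη)
  rw [Set.disjoint_compl_right_iff_subset] at hOR
  -- shrink to the interior
  let O' : Set (X ⊗ X).left := interior R
  have hO' : O'.Nonempty := hO.mono (interior_maximal hOR O.2)
  have hstab : ∀ w : (G ⊗ (X ⊗ X)).left, (snd G (X ⊗ X)).left w ∈ O' → (moveFst a).left w ∈ O' := fun w hw => by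
    have h1 : (moveFst a).left.base '' ((snd G (X ⊗ X)).left.base ⁻¹' O') ⊆ R := by
      rintro _ ⟨v, hv, rfl⟩
      exact moveFst_mem_range a v (interior_subset (s := R) hv)
    exact interior_maximal h1 (isOpenMap_moveFst a _ (isOpen_interior.preimage (snd G (X ⊗ X)).left.continuous))
      ⟨w, hw, rfl⟩
  haveI : Flat X.hom := inferInstance
  haveI : LocallyOfFinitePresentation X.hom := inferInstance
  haveI : UniversallyOpen X.hom := inferInstance
  have hfo : IsOpenMap (fst X X).left.base := (pullback.fst X.hom X.hom).isOpenMap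
  let U : X.left.Opens := ⟨(fst X X).left.base '' O', hfo _ isOpen_interior⟩
  refine ⟨U, hO'.image _, ?_⟩
  let XU : Over (Spec (CommRingCat.of k)) := Over.mk (U.ι ≫ X.hom)
  let j : XU ⟶ X := Over.homMk U.ι rfl
  haveI : IsOpenImmersion j.left := inferInstanceAs (IsOpenImmersion U.ι)
  haveI : Mono j := Over.mono_of_mono_left j
  have hjr : Set.range j.left.base = (U : Set X.left) := U.range_ι
  have hact : Set.range ((G ◁ j) ≫ a.act).left.base ⊆ Set.range j.left.base := by
    rw [Over.comp_left, Scheme.Hom.comp_base, TopCat.coe_comp, Set.range_comp,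
      OverProd19.range_of_isPullback_over (OverProd19.isPullback_whiskerLeft j G), hjr]
    rintro _ ⟨w, ⟨o, ho, how⟩, rfl⟩
    have hp := (OverProd19.isPullback_whiskerLeft (fst X X) G).map (Over.forget (Spec (CommRingCat.of k)))
    obtain ⟨v₀, hv₁, hv₂⟩ := Scheme.Pullback.exists_preimage_pullback (f := (fst X X).left)
      (g := (snd G X).left) o w how
    let v := hp.isoPullback.inv v₀
    have e1 : (snd G (X ⊗ X)).left v = o := by
      have := congrArg (fun f => f v₀) hp.isoPullback_inv_fst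
      exact this.trans hv₁
    have e2 : (G ◁ fst X X).left v = w := by
      have := congrArg (fun f => f v₀) hp.isoPullback_inv_snd
      exact this.trans hv₂
    refine ⟨(moveFst a).left v, hstab v (by rw [e1]; exact ho), ?_⟩
    rw [← Scheme.Hom.comp_apply, ← Over.comp_left, moveFst_fst, Over.comp_left, Scheme.Hom.comp_apply, e2]
  let b₀ : G ⊗ XU ⟶ XU := Over.homMk (IsOpenImmersion.lift j.left _ hact) (by
    rw [← Over.w j, IsOpenImmersion.lift_fac_assoc]
    exact Over.w ((G ◁ j) ≫ a.act))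
  have hb : b₀ ≫ j = (G ◁ j) ≫ a.act := Over.OverMorphism.ext (IsOpenImmersion.lift_fac j.left _ hact)
  let b : AlgGrp.Action G XU :=
    { act := b₀
      one_act := by
        rw [← cancel_mono j, Category.assoc, hb, ← Category.assoc, ← whisker_exchange, Category.assoc, a.one_act,
          leftUnitor_naturality]
      mul_act := by
        rw [← cancel_mono j]
        simp only [Category.assoc, hb]
        rw [← Category.assoc, ← whisker_exchange, Category.assoc, a.mul_act, ← MonoidalCategory.whiskerLeft_comp_assoc,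
          hb, MonoidalCategory.whiskerLeft_comp_assoc, associator_naturality_right_assoc] }
  refine ⟨b, hb.symm, ⟨fun z => ?_⟩⟩
  obtain ⟨K, _, _, σ, t, ht⟩ := exists_geomPoint (XU ⊗ XU) z
  obtain ⟨u, v, rfl⟩ : ∃ u v, t = lift u v := ⟨_, _, (lift_comp_fst_snd t).symm⟩
  let T := Over.mk σ
  -- a common translate
  let P := T ⊗ X
  let q : P.left ⟶ Spec (CommRingCat.of K) := (fst T X).left
  haveI : LocallyOfFiniteType q := inferInstanceAs (LocallyOfFiniteType (pullback.fst σ X.hom))
  haveI : GeometricallyIntegral q := inferInstanceAs (GeometricallyIntegral (pullback.fst σ X.hom))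
  haveI : IsLocallyNoetherian P.left := LocallyOfFiniteType.isLocallyNoetherian q
  haveI : IsIntegral P.left := GeometricallyIntegral.isIntegral_of_subsingleton q
  haveI : JacobsonSpace ↥P.left := LocallyOfFiniteType.jacobsonSpace q
  have hne : ∀ x : T ⟶ XU, ((((x ≫ j) ▷ X).left.base) ⁻¹' O').Nonempty := fun x => by
    have hx : (x ≫ j).left (IsLocalRing.closedPoint K) ∈ (U : Set X.left) := hjr.le ⟨_, rfl⟩
    obtain ⟨o, ho, hox⟩ := hx
    obtain ⟨p, hp⟩ : o ∈ Set.range ((x ≫ j) ▷ X).left.base := by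
      rw [OverProd19.range_of_isPullback_over (OverProd19.isPullback_whiskerRight (x ≫ j) X)]
      exact ⟨_, hox.symm⟩
    exact ⟨p, show _ ∈ O' by rw [hp]; exact ho⟩
  have hopen : ∀ x : T ⟶ XU, IsOpen ((((x ≫ j) ▷ X).left.base) ⁻¹' O') := fun x =>
    isOpen_interior.preimage ((x ≫ j) ▷ X).left.continuous
  obtain ⟨c, ⟨hc1, hc2⟩, hc⟩ := nonempty_inter_closedPoints
    (nonempty_preirreducible_inter (hopen u) (hopen v) (hne u) (hne v))
    ((hopen u).inter (hopen v)).isLocallyClosed
  let s := pointOfClosedPoint q c hc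
  have hs : s ≫ (fst T X).left = 𝟙 _ := pointOfClosedPoint_comp q c hc
  let s' : T ⟶ P := Over.homMk s (by
    rw [← Over.w (fst T X), reassoc_of% hs]
    )
  have hs' : s' ≫ fst T X = 𝟙 T := Over.OverMorphism.ext hs
  let w := s' ≫ snd T X
  have key : ∀ x : T ⟶ XU, ((x ≫ j) ▷ X).left c ∈ O' → ∃ g : T ⟶ G, lift g (x ≫ j) ≫ a.act = w := fun x hx => by
    obtain ⟨p, hp⟩ := exists_lift (graph a) (s' ≫ ((x ≫ j) ▷ X)) (by
      show ((x ≫ j) ▷ X).left (pointOfClosedPoint q c hc (IsLocalRing.closedPoint K)) ∈ _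
      rw [pointOfClosedPoint_apply]
      exact interior_subset hx)
    obtain ⟨g', x', rfl⟩ : ∃ g' x', p = lift g' x' := ⟨_, _, (lift_comp_fst_snd p).symm⟩
    rw [pt_graph] at hp
    have e1 : x' = x ≫ j := by
      have := congrArg (· ≫ fst X X) hp
      simp only [lift_fst, Category.assoc, whiskerRight_fst] at this
      rw [this, reassoc_of% hs']
    subst e1
    exact ⟨g', by simpa [w] using congrArg (· ≫ snd X X) hp⟩
  obtain ⟨g, hg⟩ := key u hc1
  obtain ⟨g', hg'⟩ := key v hc2
  have hfin : lift (g'⁻¹ * g) u ≫ lift (snd G XU) b₀ = lift u v := by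
    rw [comp_lift, lift_snd]
    congr 1
    rw [← cancel_mono j, Category.assoc, hb, lift_whiskerLeft_assoc, AlgGrpBasic19.act_mul, hg, ← hg',
      ← AlgGrpBasic19.act_mul, _root_.inv_mul_cancel, AlgGrpBasic19.act_one]
  refine ⟨(lift (g'⁻¹ * g) u).left (IsLocalRing.closedPoint K), ?_⟩
  refine Eq.trans ?_ (ht (IsLocalRing.closedPoint K))
  show _ = (lift u v).left _
  rw [← hfin]
  rfl

variable {U : X.left.Opens} (b : AlgGrp.Action G (Over.mk (U.ι ≫ X.hom)))

theorem mem_range_tensor (p : (X ⊗ X).left) (h1 : (fst X X).left p ∈ U) (h2 : (snd X X).left p ∈ U) :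
    p ∈ Set.range (((Over.homMk U.ι rfl : Over.mk (U.ι ≫ X.hom) ⟶ X) ▷ Over.mk (U.ι ≫ X.hom)) ≫
      (X ◁ (Over.homMk U.ι rfl : Over.mk (U.ι ≫ X.hom) ⟶ X))).left.base := by
  let j : Over.mk (U.ι ≫ X.hom) ⟶ X := Over.homMk U.ι rfl
  obtain ⟨v, rfl⟩ : p ∈ Set.range (X ◁ j).left.base := by
    rw [OverProd19.range_of_isPullback_over (OverProd19.isPullback_whiskerLeft j X)]
    exact U.range_ι.ge h2
  obtain ⟨w, rfl⟩ : v ∈ Set.range (j ▷ Over.mk (U.ι ≫ X.hom)).left.base := by
    rw [OverProd19.range_of_isPullback_over (OverProd19.isPullback_whiskerRight j _)]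
    refine U.range_ι.ge ?_
    rw [← Scheme.Hom.comp_apply, ← Over.comp_left, whiskerLeft_fst] at h1
    exact h1
  exact ⟨w, rfl⟩

theorem exists_graph_preimage
    (hb : (G ◁ (Over.homMk U.ι rfl : Over.mk (U.ι ≫ X.hom) ⟶ X)) ≫ a.act = b.act ≫ Over.homMk U.ι rfl)
    (hs : Surjective (lift (snd G (Over.mk (U.ι ≫ X.hom))) b.act).left)
    (p : (X ⊗ X).left) (h1 : (fst X X).left p ∈ U) (h2 : (snd X X).left p ∈ U) :
    ∃ w : (G ⊗ X).left, (graph a).left w = p ∧
      (snd G X).left w = (fst X X).left p ∧ a.act.left w = (snd X X).left p := by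
  obtain ⟨z, hz⟩ := mem_range_tensor p h1 h2
  obtain ⟨w, hw⟩ := hs.surj z
  let j : Over.mk (U.ι ≫ X.hom) ⟶ X := Over.homMk U.ι rfl
  have e : lift (snd G (Over.mk (U.ι ≫ X.hom))) b.act ≫ (j ▷ _) ≫ (X ◁ j) = (G ◁ j) ≫ graph a := by
    rw [lift_whiskerRight_assoc, lift_whiskerLeft, graph, comp_lift, whiskerLeft_snd, hb]
  have e' : (graph a).left ((G ◁ j).left w) = p := by
    rw [← Scheme.Hom.comp_apply, ← Over.comp_left, ← e, Over.comp_left, Scheme.Hom.comp_apply, hw]
    exact hz
  refine ⟨_, e', ?_, ?_⟩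
  · conv_rhs => rw [← e', ← Scheme.Hom.comp_apply, ← Over.comp_left, graph, lift_fst]
  · conv_rhs => rw [← e', ← Scheme.Hom.comp_apply, ← Over.comp_left, graph, lift_snd]

theorem isDominant_of_stable [LocallyOfFiniteType X.hom] [GeometricallyIntegral X.hom] (hU : (U : Set X.left).Nonempty)
    (hb : (G ◁ (Over.homMk U.ι rfl : Over.mk (U.ι ≫ X.hom) ⟶ X)) ≫ a.act = b.act ≫ Over.homMk U.ι rfl)
    (hs : Surjective (lift (snd G (Over.mk (U.ι ≫ X.hom))) b.act).left) :
    IsDominant (graph a).left := by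
  haveI : LocallyOfFiniteType (X ⊗ X).hom :=
    inferInstanceAs (LocallyOfFiniteType (pullback.fst X.hom X.hom ≫ X.hom))
  haveI : GeometricallyIntegral (X ⊗ X).hom := AbRigid.geometricallyIntegral_tensorObj X X
  haveI : IsLocallyNoetherian (X ⊗ X).left := LocallyOfFiniteType.isLocallyNoetherian (X ⊗ X).hom
  haveI : IsIntegral (X ⊗ X).left := GeometricallyIntegral.isIntegral_of_subsingleton (X ⊗ X).hom
  obtain ⟨x, hx⟩ := hU
  let O : Set (X ⊗ X).left := (fst X X).left.base ⁻¹' U ∩ (snd X X).left.base ⁻¹' U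
  have hO : IsOpen O := (U.2.preimage (fst X X).left.continuous).inter (U.2.preimage (snd X X).left.continuous)
  obtain ⟨p, hp1, hp2⟩ := Scheme.Pullback.exists_preimage_pullback (f := X.hom) (g := X.hom) x x rfl
  have hne : O.Nonempty := ⟨p, show _ ∈ U by exact hp1.symm ▸ hx, show _ ∈ U by exact hp2.symm ▸ hx⟩
  refine ⟨(hO.dense hne).mono ?_⟩
  rintro q ⟨q1, q2⟩
  obtain ⟨w, hw, -, -⟩ := exists_graph_preimage a b hb hs q q1 q2
  exact ⟨w, hw⟩

theorem subset_of_stable [LocallyOfFiniteType X.hom] [GeometricallyIntegral X.hom] (hU : (U : Set X.left).Nonempty)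
    (hb : (G ◁ (Over.homMk U.ι rfl : Over.mk (U.ι ≫ X.hom) ⟶ X)) ≫ a.act = b.act ≫ Over.homMk U.ι rfl)
    (hs : Surjective (lift (snd G (Over.mk (U.ι ≫ X.hom))) b.act).left)
    {U' : X.left.Opens} (hU' : (U' : Set X.left).Nonempty) (b' : AlgGrp.Action G (Over.mk (U'.ι ≫ X.hom)))
    (hb' : (G ◁ (Over.homMk U'.ι rfl : Over.mk (U'.ι ≫ X.hom) ⟶ X)) ≫ a.act = b'.act ≫ Over.homMk U'.ι rfl) :
    U ≤ U' := by
  haveI : IsLocallyNoetherian X.left := LocallyOfFiniteType.isLocallyNoetherian X.hom
  haveI : IsIntegral X.left := GeometricallyIntegral.isIntegral_of_subsingleton X.hom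
  intro z hz
  obtain ⟨x, hx, hx'⟩ := nonempty_preirreducible_inter U.2 U'.2 hU hU'
  obtain ⟨p, hp1, hp2⟩ := Scheme.Pullback.exists_preimage_pullback (f := X.hom) (g := X.hom) x z
    (Subsingleton.elim (α := PrimeSpectrum k) _ _)
  obtain ⟨w, -, hw1, hw2⟩ := exists_graph_preimage a b hb hs p (show _ ∈ U by exact hp1.symm ▸ hx)
    (show _ ∈ U by exact hp2.symm ▸ hz)
  let j : Over.mk (U'.ι ≫ X.hom) ⟶ X := Over.homMk U'.ι rfl
  obtain ⟨w', rfl⟩ : w ∈ Set.range (G ◁ j).left.base := by
    rw [OverProd19.range_of_isPullback_over (OverProd19.isPullback_whiskerLeft j G)]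
    refine U'.range_ι.ge ?_
    show (snd G X).left w ∈ U'
    rw [hw1]
    exact hp1.symm ▸ hx'
  have : a.act.left ((G ◁ j).left w') ∈ U' := by
    rw [← Scheme.Hom.comp_apply, ← Over.comp_left, hb', Over.comp_left, Scheme.Hom.comp_apply]
    exact U'.range_ι.le ⟨_, rfl⟩
  rw [hw2] at this
  exact hp2 ▸ this

end Groth.Agent.OpenOrbit19
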